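import Cfsg.Agent.Schur.Enc
import Cfsg.Agent.Schur.Swap
import Cfsg.Agent.Golay.Mathieu

set_option autoImplicit false
set_option maxRecDepth 100000

namespace Cfsg.Agent.Schur.M12
open Cfsg.Agent.Comp Cfsg.Agent.Schur

noncomputable def n0 : Net :=
(Net.cons (nat_lit 0xaaa) (nat_lit 12)
(Net.cons (nat_lit 0x2a02a) (nat_lit 6)
(Net.cons (nat_lit 0x82082) (nat_lit 3)
(Net.cons (nat_lit 0x41041) (nat_lit 2)
(Net.cons (nat_lit 0x249249) (nat_lit 1)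
(Net.cons (nat_lit 0x41041) (nat_lit 2)
(Net.cons (nat_lit 0x1c01c0) (nat_lit 3)
(Net.cons (nat_lit 0x7038) (nat_lit 6)
(Net.cons (nat_lit 0xfc0) (nat_lit 12)
Net.nil)))))))))

noncomputable def n1 : Net :=
(Net.cons (nat_lit 0x398) (nat_lit 12)
(Net.cons (nat_lit 0x30018) (nat_lit 6)
(Net.cons (nat_lit 0x106004) (nat_lit 3)
(Net.cons (nat_lit 0x48008) (nat_lit 2)
(Net.cons (nat_lit 0x49208) (nat_lit 1)
(Net.cons (nat_lit 0x241000) (nat_lit 2)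
(Net.cons (nat_lit 0x1c7040) (nat_lit 3)
(Net.cons (nat_lit 0x2f021) (nat_lit 6)
(Net.cons (nat_lit 0x51d) (nat_lit 12)
Net.nil)))))))))

noncomputable def n2 : Net :=
(Net.cons (nat_lit 0x224) (nat_lit 12)
(Net.cons (nat_lit 0x3a02c) (nat_lit 6)
(Net.cons (nat_lit 0x86006) (nat_lit 3)
(Net.cons (nat_lit 0x200008) (nat_lit 2)
(Net.cons (nat_lit 0x241008) (nat_lit 1)
(Net.cons (nat_lit 0x208000) (nat_lit 2)
(Net.cons (nat_lit 0x107186) (nat_lit 3)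
(Net.cons (nat_lit 0x22004) (nat_lit 6)
(Net.cons (nat_lit 0xde6) (nat_lit 12)
Net.nil)))))))))

noncomputable def n3 : Net :=
(Net.cons (nat_lit 0x89e) (nat_lit 12)
(Net.cons (nat_lit 0x28032) (nat_lit 6)
(Net.cons (nat_lit 0x84004) (nat_lit 3)
(Net.cons (nat_lit 0x208008) (nat_lit 2)
(Net.cons (nat_lit 0x209248) (nat_lit 1)
(Net.cons (nat_lit 0x240008) (nat_lit 2)
(Net.cons (nat_lit 0xc00c2) (nat_lit 3)
(Net.cons (nat_lit 0x2903e) (nat_lit 6)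
(Net.cons (nat_lit 0xf52) (nat_lit 12)
Net.nil)))))))))

noncomputable def n4 : Net :=
(Net.cons (nat_lit 0x710) (nat_lit 12)
(Net.cons (nat_lit 0x3c004) (nat_lit 6)
(Net.cons (nat_lit 0x180180) (nat_lit 3)
(Net.cons (nat_lit 0x40000) (nat_lit 2)
(Net.cons (nat_lit 0x248208) (nat_lit 1)
(Net.cons (nat_lit 0x41200) (nat_lit 2)
(Net.cons (nat_lit 0x2040) (nat_lit 3)
(Net.cons (nat_lit 0xd000) (nat_lit 6)
(Net.cons (nat_lit 0x196) (nat_lit 12)
Net.nil)))))))))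

noncomputable def n5 : Net :=
(Net.cons (nat_lit 0xd98) (nat_lit 12)
(Net.cons (nat_lit 0x2001e) (nat_lit 6)
(Net.cons (nat_lit 0x100086) (nat_lit 3)
(Net.cons (nat_lit 0x40008) (nat_lit 2)
(Net.cons (nat_lit 0x41048) (nat_lit 1)
(Net.cons (nat_lit 0x240040) (nat_lit 2)
(Net.cons (nat_lit 0x183086) (nat_lit 3)
(Net.cons (nat_lit 0x5012) (nat_lit 6)
(Net.cons (nat_lit 0xa98) (nat_lit 12)
Net.nil)))))))))

noncomputable def n6 : Net :=
(Net.cons (nat_lit 0x61c) (nat_lit 12)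
(Net.cons (nat_lit 0x4008) (nat_lit 6)
(Net.cons (nat_lit 0x80100) (nat_lit 3)
(Net.cons (nat_lit 0x201040) (nat_lit 2)
(Net.cons (nat_lit 0x249040) (nat_lit 1)
(Net.cons (nat_lit 0x41240) (nat_lit 2)
(Net.cons (nat_lit 0x1011c0) (nat_lit 3)
(Net.cons (nat_lit 0x2f008) (nat_lit 6)
(Net.cons (nat_lit 0xb54) (nat_lit 12)
Net.nil)))))))))

noncomputable def n7 : Net :=
(Net.cons (nat_lit 0x6c4) (nat_lit 12)
(Net.cons (nat_lit 0x1203c) (nat_lit 6)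
(Net.cons (nat_lit 0x100006) (nat_lit 3)
(Net.cons (nat_lit 0x8001) (nat_lit 2)
(Net.cons (nat_lit 0x248201) (nat_lit 1)
(Net.cons (nat_lit 0x208009) (nat_lit 2)
(Net.cons (nat_lit 0x102046) (nat_lit 3)
(Net.cons (nat_lit 0x13030) (nat_lit 6)
(Net.cons (nat_lit 0xdd4) (nat_lit 12)
Net.nil)))))))))

noncomputable def n8 : Net :=
(Net.cons (nat_lit 0xe14) (nat_lit 12)
(Net.cons (nat_lit 0x28000) (nat_lit 6)
(Net.cons (nat_lit 0x180184) (nat_lit 3)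
(Net.cons (nat_lit 0x40040) (nat_lit 2)
(Net.cons (nat_lit 0x240040) (nat_lit 1)
(Net.cons (nat_lit 0x40248) (nat_lit 2)
(Net.cons (nat_lit 0x183184) (nat_lit 3)
(Net.cons (nat_lit 0x2800c) (nat_lit 6)
(Net.cons (nat_lit 0xe54) (nat_lit 12)
Net.nil)))))))))

noncomputable def T : List Net := [n0, n1, n2, n3, n4, n5, n6, n7, n8]

theorem ok : TOK 24 T := TOK_of_ok (by decide +kernel)

def E : List (List Nat × List Nat) :=
  [([1, 1, 1, 2], [0, 1, 1, 0, 1]),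
   ([0, 0, 0, 2, 3], [0, 2, 0, 2]),
   ([2, 4], [2, 2, 0]),
   ([5], [3, 4, 4]),
   ([4, 6], [3, 3, 3, 3]),
   ([7], [6, 6, 5]),
   ([6, 5, 5, 8], [6, 6, 5, 6, 5])]

theorem eqs : ∀ e ∈ E, ev (sig T) e.1 = ev (sig T) e.2 :=
  eq_of_eqsP ok (by norm_num) (show eqsP (nat_lit 24) (nat_lit 5) (nat_lit 0) (nat_lit 5) T E = true by decide +kernel)

noncomputable def phi : ↥Cfsg.Spor.M12 →* Equiv.Perm ℕ := (encHom Golay.gE).comp (Cfsg.Spor.M12).subtype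

theorem rep0 : ∃ s, Rep s 2 24 T phi :=
  rep_of_gen Golay.gE (w := 5) (by norm_num) Golay.gen_M12 ok rfl (by decide +kernel)

noncomputable def s : ℕ → ↥Cfsg.Spor.M12 := rep0.choose

theorem rep : Rep s 2 24 T phi := rep0.choose_spec

theorem card : Finite ↥Cfsg.Spor.M12 ∧ Nat.card ↥Cfsg.Spor.M12 = 95040 := ⟨inferInstance, Golay.card_M12⟩

theorem inj : Function.Injective phi := encHom_sub_injective _ _

theorem allIn : AllIn phi.range T := allIn_of_rep rep eqs (L' := 9) rfl (by decide +kernel)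

end Cfsg.Agent.Schur.M12
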