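import Cfsg.Agent.Schur.M12.Base
import Cfsg.Agent.Schur.Prod

set_option autoImplicit false
set_option maxRecDepth 100000

namespace Cfsg.Agent.Schur.M12
open Cfsg.Agent.Comp Cfsg.Agent.Schur

def RP : List (List Nat) :=
  [[0, 1],
   [1, 0],
   [2, 2],
   [3, 3],
   [4, 4],
   [5, 5],
   [6, 6],
   [0, 0, 0],
   [0, 2, 0, 2],
   [0, 3, 0, 3, 0, 3],
   [2, 3, 2, 3, 2, 3],
   [0, 4, 0, 4],
   [2, 4, 2, 4],
   [0, 3, 1, 4, 3, 1, 4, 3, 4],
   [0, 5, 0, 5],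
   [4, 5, 4, 5],
   [2, 5, 2, 5, 2, 5],
   [0, 5, 3, 0, 5, 3, 5, 1, 3],
   [0, 3, 2, 0, 5, 2, 3, 2, 5, 2],
   [4, 6, 4, 6],
   [5, 6, 5, 6],
   [0, 6, 0, 6, 0, 6],
   [2, 6, 2, 6, 2, 6],
   [0, 3, 1, 6, 3, 1, 2, 3, 6],
   [0, 5, 2, 6, 3, 5, 4, 3, 5, 3, 4, 2, 3, 4, 3, 6, 3]]

namespace Tp4

noncomputable def t0 : Tr := (Tr.leaf (nat_lit 0xffffffffffff000ffffffffffff000ffffffffffff000ffffffffffff000ffffffffffff000ffffffffffff000ffffffffffff000ffffffffffff000ffffffffffff000ffffffffffff852fff012053094851fff0110b5053450fff010074075430fff035051010410fff034010072000fff033032031))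

noncomputable def T : Tr := t0

def RT : List (List (List Nat)) := [
  [[nat_lit 2, nat_lit 1, nat_lit 2],
   [nat_lit 1, nat_lit 1]],
  [[nat_lit 0, nat_lit 0],
   [nat_lit 2, nat_lit 0, nat_lit 2]],
  [],
  []]

def HT : List (List (Nat × Nat × Nat)) := [
  [(1, 4, 0), (1, 3, 0)],
  [(0, 3, 0), (0, 4, 1)],
  [],
  []]

def R : List (List Nat) :=
  [[0, 1],
   [1, 0],
   [2, 2],
   [0, 0, 0],
   [0, 2, 0, 2]]

def W : List (List Nat) := []

noncomputable def P : Par := ⟨T, (nat_lit 4), (nat_lit 15), (nat_lit 60), (nat_lit 12), (nat_lit 4095), (nat_lit 5), (nat_lit 31), (nat_lit 3), (nat_lit 22), (nat_lit 32), (nat_lit 0x418801), RT⟩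

noncomputable def J0 : List Nat := [
  nat_lit 0x1241981091891f911111111111111111111111111111111111111111]

theorem c0 : chk T (nat_lit 4) (nat_lit 15) (nat_lit 60) (nat_lit 12) (nat_lit 4095) (nat_lit 5) (nat_lit 31) (nat_lit 3) (nat_lit 22) (nat_lit 32) (nat_lit 0x418801) (nat_lit 2) (nat_lit 3) RT (nat_lit 16) J0 (nat_lit 16) = true := by
  decide +kernel

theorem r0 : P.RowsOK 16 32 := chk_sound P _ _ _ J0 _ _ (by decide +kernel) c0

theorem index.{u} : IndexLe.{u} 3 R W 6 :=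
  indexLe_of_cert P HT (by decide +kernel)
    (show P.RowsOK 16 32 from r0)

end Tp4

theorem upP_4 : CardLe (genW (presS 7 RP) [[0], [1], [2]]) 6 :=
  CardLe.tc (V' := []) (n := 6) (m := 1) [0, 1, 2] Tp4.index (presS_sat 7 RP) (by decide +kernel) (by decide +kernel) (by decide +kernel) (cardLe_nil (presS 7 RP))

namespace Tp3

noncomputable def t0 : Tr := (Tr.leaf (nat_lit 0x7fffffffffffffffc001ffffffffffffffff0007fffffffffffffffc001ffffffffffffffff0007fffffffffffffffc001ffffffffffffffffa0bfffc23211900b83620edfff00b01dc1f209783afffc02a09805c00e58a7fff01c004c0a80956297ffc06e01205b01510a3fff02a00440ea076418fffc0a40360290045023fff03980d40220732387ffc02003401980c8001fff01880c00a0030))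

noncomputable def T : Tr := t0

def RT : List (List (List Nat)) := [
  [[nat_lit 2, nat_lit 1, nat_lit 2],
   [nat_lit 1, nat_lit 1],
   [nat_lit 5],
   [nat_lit 3, nat_lit 1, nat_lit 3, nat_lit 1, nat_lit 3]],
  [[nat_lit 0, nat_lit 0],
   [nat_lit 2, nat_lit 0, nat_lit 2]],
  [[nat_lit 3, nat_lit 2, nat_lit 3, nat_lit 2, nat_lit 3],
   [nat_lit 5],
   [nat_lit 1, nat_lit 2, nat_lit 1]],
  [[nat_lit 0, nat_lit 3, nat_lit 0, nat_lit 3, nat_lit 0],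
   [nat_lit 2, nat_lit 3, nat_lit 2, nat_lit 3, nat_lit 2],
   [nat_lit 1, nat_lit 3, nat_lit 1, nat_lit 3, nat_lit 1]],
  []]

def HT : List (List (Nat × Nat × Nat)) := [
  [(1, 5, 0), (1, 4, 0), (2, 0, 0), (1, 6, 0)],
  [(0, 4, 0), (0, 5, 1)],
  [(0, 7, 1), (2, 2, 0), (1, 5, 1)],
  [(0, 6, 0), (0, 7, 0), (1, 6, 1)],
  []]

def R : List (List Nat) :=
  [[0, 1],
   [1, 0],
   [2, 2],
   [3, 3],
   [0, 0, 0],
   [0, 2, 0, 2],
   [0, 3, 0, 3, 0, 3],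
   [2, 3, 2, 3, 2, 3]]

def W : List (List Nat) := [[0],
   [1],
   [2]]

noncomputable def P : Par := ⟨T, (nat_lit 4), (nat_lit 15), (nat_lit 78), (nat_lit 13), (nat_lit 8191), (nat_lit 5), (nat_lit 31), (nat_lit 4), (nat_lit 26), (nat_lit 32), (nat_lit 0xa418801), RT⟩

noncomputable def J0 : List Nat := [
  nat_lit 0x56400027202008844400c5041022c284405b88080221a1442e32042108421084210842108421084210842108421]

theorem c0 : chk T (nat_lit 4) (nat_lit 15) (nat_lit 78) (nat_lit 13) (nat_lit 8191) (nat_lit 5) (nat_lit 31) (nat_lit 4) (nat_lit 26) (nat_lit 32) (nat_lit 0xa418801) (nat_lit 3) (nat_lit 7) RT (nat_lit 16) J0 (nat_lit 16) = true := by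
  decide +kernel

theorem r0 : P.RowsOK 16 32 := chk_sound P _ _ _ J0 _ _ (by decide +kernel) c0

theorem index.{u} : IndexLe.{u} 4 R W 10 :=
  indexLe_of_cert P HT (by decide +kernel)
    (show P.RowsOK 16 32 from r0)

end Tp3

theorem upP_3 : CardLe (genW (presS 7 RP) [[0], [1], [2], [3]]) 60 :=
  CardLe.tc (V' := [[0], [1], [2]]) (n := 10) (m := 6) [0, 1, 2, 3] Tp3.index (presS_sat 7 RP) (by decide +kernel) (by decide +kernel) (by decide +kernel) upP_4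

namespace Tp2

noncomputable def t0 : Tr := (Tr.leaf (nat_lit 0x7ffffffffffffffffffe000fffffffffffffffffffc001fffffffffffffffffff8003fffffffffffffffffff0007fffffffffffffffffff818fff84e823411a00c03668effff08c005c1700fa04c51dbffe0f900b036417203a82a7ffc12a03900a015412d053fff835807001305b81558a5fff05b81d402407603bb0cbffe07204980dc0a60126097ffc1660b401b00480e8871fff825002203501a00cc921fff00800c80a20910388003ffe03101800c00a0030))

noncomputable def T : Tr := t0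

def RT : List (List (List Nat)) := [
  [[nat_lit 2, nat_lit 1, nat_lit 2],
   [nat_lit 1, nat_lit 1],
   [nat_lit 6],
   [nat_lit 4, nat_lit 1, nat_lit 4],
   [nat_lit 3, nat_lit 1, nat_lit 3, nat_lit 1, nat_lit 3]],
  [[nat_lit 0, nat_lit 0],
   [nat_lit 2, nat_lit 0, nat_lit 2]],
  [[nat_lit 3, nat_lit 2, nat_lit 3, nat_lit 2, nat_lit 3],
   [nat_lit 6],
   [nat_lit 4, nat_lit 2, nat_lit 4],
   [nat_lit 1, nat_lit 2, nat_lit 1]],
  [[nat_lit 0, nat_lit 3, nat_lit 0, nat_lit 3, nat_lit 0],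
   [nat_lit 2, nat_lit 3, nat_lit 2, nat_lit 3, nat_lit 2],
   [nat_lit 1, nat_lit 3, nat_lit 1, nat_lit 3, nat_lit 1],
   [nat_lit 6]],
  [[nat_lit 0, nat_lit 3, nat_lit 4, nat_lit 0, nat_lit 3, nat_lit 1, nat_lit 4, nat_lit 3],
   [nat_lit 1, nat_lit 4, nat_lit 1],
   [nat_lit 2, nat_lit 4, nat_lit 2],
   [nat_lit 3, nat_lit 4, nat_lit 0, nat_lit 3, nat_lit 4, nat_lit 0, nat_lit 3, nat_lit 1],
   [nat_lit 0, nat_lit 4, nat_lit 0]],
  []]

def HT : List (List (Nat × Nat × Nat)) := [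
  [(1, 6, 0), (1, 5, 0), (2, 0, 0), (1, 9, 0), (1, 7, 0)],
  [(0, 5, 0), (0, 6, 1)],
  [(0, 8, 1), (2, 2, 0), (0, 10, 1), (1, 6, 1)],
  [(0, 7, 0), (0, 8, 0), (1, 7, 1), (2, 3, 0)],
  [(1, 11, 3), (1, 9, 1), (0, 10, 0), (1, 11, 1), (0, 9, 0)],
  []]

def R : List (List Nat) :=
  [[0, 1],
   [1, 0],
   [2, 2],
   [3, 3],
   [4, 4],
   [0, 0, 0],
   [0, 2, 0, 2],
   [0, 3, 0, 3, 0, 3],
   [2, 3, 2, 3, 2, 3],
   [0, 4, 0, 4],
   [2, 4, 2, 4],
   [0, 3, 1, 4, 3, 1, 4, 3, 4]]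

def W : List (List Nat) := [[0],
   [1],
   [2],
   [3]]

noncomputable def P : Par := ⟨T, (nat_lit 4), (nat_lit 15), (nat_lit 91), (nat_lit 13), (nat_lit 8191), (nat_lit 5), (nat_lit 31), (nat_lit 5), (nat_lit 27), (nat_lit 32), (nat_lit 0x18a418801), RT⟩

noncomputable def J0 : List Nat := [
  nat_lit 0x2b20001390005e40688221004404440618a090408b01422205b88810046870510171b3042108421084210842108421084210842108421]

theorem c0 : chk T (nat_lit 4) (nat_lit 15) (nat_lit 91) (nat_lit 13) (nat_lit 8191) (nat_lit 5) (nat_lit 31) (nat_lit 5) (nat_lit 27) (nat_lit 32) (nat_lit 0x18a418801) (nat_lit 3) (nat_lit 7) RT (nat_lit 16) J0 (nat_lit 16) = true := by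
  decide +kernel

theorem r0 : P.RowsOK 16 32 := chk_sound P _ _ _ J0 _ _ (by decide +kernel) c0

theorem index.{u} : IndexLe.{u} 5 R W 11 :=
  indexLe_of_cert P HT (by decide +kernel)
    (show P.RowsOK 16 32 from r0)

end Tp2

theorem upP_2 : CardLe (genW (presS 7 RP) [[0], [1], [2], [3], [4]]) 660 :=
  CardLe.tc (V' := [[0], [1], [2], [3]]) (n := 11) (m := 60) [0, 1, 2, 3, 4] Tp2.index (presS_sat 7 RP) (by decide +kernel) (by decide +kernel) (by decide +kernel) upP_3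

namespace Tp1

noncomputable def t0 : Tr := (Tr.leaf (nat_lit 0x7ffffffffffffffffffffff0007ffffffffffffffffffffff0007ffffffffffffffffffffff0007ffffffffffffffffffffffa0cfffc1b21790ad85e403211aa3bfffc27411a00b83e82760d983b7ffc1f615b00b056c1f403b84afffc1b001505c02dc0ac09784a7ffc12c01401d0360170056649fffc16e01301c82580ee078619fffc16a03804a02500a8013609fffc0e603705a82d4026075438fffc12803600881cc06a034428fffc0a407202900441a40b22587ffc02005101980c81220710007ffc06203001800c00a0030))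

noncomputable def T : Tr := t0

def RT : List (List (List Nat)) := [
  [[nat_lit 4, nat_lit 1, nat_lit 4],
   [nat_lit 1, nat_lit 1],
   [nat_lit 7],
   [nat_lit 5, nat_lit 1, nat_lit 5],
   [nat_lit 2, nat_lit 1, nat_lit 2],
   [nat_lit 3, nat_lit 1, nat_lit 3, nat_lit 1, nat_lit 3]],
  [[nat_lit 0, nat_lit 0],
   [nat_lit 4, nat_lit 0, nat_lit 4]],
  [[nat_lit 7],
   [nat_lit 3, nat_lit 2, nat_lit 3, nat_lit 2, nat_lit 3],
   [nat_lit 0, nat_lit 2, nat_lit 0],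
   [nat_lit 4, nat_lit 2, nat_lit 4],
   [nat_lit 1, nat_lit 2, nat_lit 1]],
  [[nat_lit 0, nat_lit 3, nat_lit 0, nat_lit 3, nat_lit 0],
   [nat_lit 7],
   [nat_lit 2, nat_lit 5, nat_lit 2, nat_lit 0, nat_lit 3, nat_lit 2, nat_lit 0, nat_lit 5, nat_lit 2],
   [nat_lit 4, nat_lit 0, nat_lit 3, nat_lit 1, nat_lit 4, nat_lit 3, nat_lit 4, nat_lit 0],
   [nat_lit 1, nat_lit 3, nat_lit 1, nat_lit 3, nat_lit 1]],
  [[nat_lit 7],
   [nat_lit 5, nat_lit 4, nat_lit 5],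
   [nat_lit 2, nat_lit 4, nat_lit 2],
   [nat_lit 3, nat_lit 4, nat_lit 0, nat_lit 3, nat_lit 4, nat_lit 0, nat_lit 3, nat_lit 1],
   [nat_lit 1, nat_lit 4, nat_lit 1]],
  [[nat_lit 2, nat_lit 5, nat_lit 2, nat_lit 5, nat_lit 2],
   [nat_lit 1, nat_lit 3, nat_lit 5, nat_lit 1, nat_lit 3, nat_lit 0, nat_lit 5, nat_lit 3],
   [nat_lit 0, nat_lit 5, nat_lit 0],
   [nat_lit 4, nat_lit 5, nat_lit 4]],
  []]

def HT : List (List (Nat × Nat × Nat)) := [
  [(1, 10, 0), (1, 6, 0), (2, 0, 0), (1, 13, 0), (1, 7, 0), (1, 8, 0)],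
  [(0, 6, 0), (0, 10, 1)],
  [(2, 2, 0), (0, 9, 1), (0, 7, 0), (0, 11, 1), (1, 7, 1)],
  [(0, 8, 0), (2, 3, 0), (0, 17, 7), (1, 12, 5), (1, 8, 1)],
  [(2, 4, 0), (0, 14, 1), (0, 11, 0), (1, 12, 1), (1, 10, 1)],
  [(0, 15, 0), (1, 16, 5), (0, 13, 0), (0, 14, 0)],
  []]

def R : List (List Nat) :=
  [[0, 1],
   [1, 0],
   [2, 2],
   [3, 3],
   [4, 4],
   [5, 5],
   [0, 0, 0],
   [0, 2, 0, 2],
   [0, 3, 0, 3, 0, 3],
   [2, 3, 2, 3, 2, 3],
   [0, 4, 0, 4],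
   [2, 4, 2, 4],
   [0, 3, 1, 4, 3, 1, 4, 3, 4],
   [0, 5, 0, 5],
   [4, 5, 4, 5],
   [2, 5, 2, 5, 2, 5],
   [0, 5, 3, 0, 5, 3, 5, 1, 3],
   [0, 3, 2, 0, 5, 2, 3, 2, 5, 2]]

def W : List (List Nat) := [[0],
   [1],
   [2],
   [3],
   [4]]

noncomputable def P : Par := ⟨T, (nat_lit 4), (nat_lit 15), (nat_lit 104), (nat_lit 13), (nat_lit 8191), (nat_lit 5), (nat_lit 31), (nat_lit 6), (nat_lit 28), (nat_lit 32), (nat_lit 0x398a418801), RT⟩

noncomputable def J0 : List Nat := [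
  nat_lit 0x15900008c8002720008c80d00388708c882038801110030c5442040a22028011a16ed8d081a3807871b02e2306108421084210842108421084210842108421]

theorem c0 : chk T (nat_lit 4) (nat_lit 15) (nat_lit 104) (nat_lit 13) (nat_lit 8191) (nat_lit 5) (nat_lit 31) (nat_lit 6) (nat_lit 28) (nat_lit 32) (nat_lit 0x398a418801) (nat_lit 3) (nat_lit 7) RT (nat_lit 16) J0 (nat_lit 16) = true := by
  decide +kernel

theorem r0 : P.RowsOK 16 32 := chk_sound P _ _ _ J0 _ _ (by decide +kernel) c0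

theorem index.{u} : IndexLe.{u} 6 R W 12 :=
  indexLe_of_cert P HT (by decide +kernel)
    (show P.RowsOK 16 32 from r0)

end Tp1

theorem upP_1 : CardLe (genW (presS 7 RP) [[0], [1], [2], [3], [4], [5]]) 7920 :=
  CardLe.tc (V' := [[0], [1], [2], [3], [4]]) (n := 12) (m := 660) [0, 1, 2, 3, 4, 5] Tp1.index (presS_sat 7 RP) (by decide +kernel) (by decide +kernel) (by decide +kernel) upP_2

namespace Tp0

noncomputable def t0 : Tr := (Tr.leaf (nat_lit 0x7fffffffffffffffffffffffff8003fffffffffffffffffffffffffc001fffffffffffffffffffffffffe000ffffffffffffffffffffffffffa4d7ffc2f615b00d056c13617b0adc1dbffe15a09d00ec02c07a09d0469969fff03c805013215903c8154170c73fff83dc36c15500983541b2075629fffc23017504b03d002605404b314bffe0f50cc02dc07401205b81510e3fff08b055c27001105c02600f2851fff815007207406b80440ec077418fffc0a407203900e006e052008a047ffe073049824c0a403600881cc9a1fff00801440a203501a00cc064000fff80c406003001800c00a0030))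

noncomputable def T : Tr := t0

def RT : List (List (List Nat)) := [
  [[nat_lit 2, nat_lit 1, nat_lit 2],
   [nat_lit 1, nat_lit 1],
   [nat_lit 8],
   [nat_lit 3, nat_lit 1, nat_lit 3, nat_lit 1, nat_lit 3],
   [nat_lit 4, nat_lit 1, nat_lit 4]],
  [[nat_lit 0, nat_lit 0],
   [nat_lit 2, nat_lit 0, nat_lit 2],
   [nat_lit 5, nat_lit 2, nat_lit 6, nat_lit 3, nat_lit 5, nat_lit 4, nat_lit 3, nat_lit 5, nat_lit 3, nat_lit 4, nat_lit 2, nat_lit 3, nat_lit 4, nat_lit 3, nat_lit 6, nat_lit 3]],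
  [[nat_lit 8],
   [nat_lit 3, nat_lit 2, nat_lit 3, nat_lit 2, nat_lit 3],
   [nat_lit 4, nat_lit 2, nat_lit 4],
   [nat_lit 3, nat_lit 6, nat_lit 0, nat_lit 3, nat_lit 1, nat_lit 6, nat_lit 3, nat_lit 1],
   [nat_lit 5, nat_lit 2, nat_lit 5, nat_lit 2, nat_lit 5]],
  [[nat_lit 8],
   [nat_lit 1, nat_lit 6, nat_lit 3, nat_lit 2, nat_lit 0, nat_lit 3, nat_lit 6, nat_lit 0],
   [nat_lit 2, nat_lit 3, nat_lit 2, nat_lit 3, nat_lit 2],
   [nat_lit 4, nat_lit 0, nat_lit 3, nat_lit 4, nat_lit 0, nat_lit 3, nat_lit 1, nat_lit 4],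
   [nat_lit 5, nat_lit 1, nat_lit 3, nat_lit 0, nat_lit 5, nat_lit 3, nat_lit 0, nat_lit 5]],
  [[nat_lit 8],
   [nat_lit 6, nat_lit 4, nat_lit 6],
   [nat_lit 0, nat_lit 4, nat_lit 0],
   [nat_lit 2, nat_lit 4, nat_lit 2],
   [nat_lit 5, nat_lit 4, nat_lit 5]],
  [[nat_lit 8],
   [nat_lit 6, nat_lit 5, nat_lit 6],
   [nat_lit 0, nat_lit 5, nat_lit 0],
   [nat_lit 2, nat_lit 3, nat_lit 2, nat_lit 5, nat_lit 2, nat_lit 0, nat_lit 3, nat_lit 2, nat_lit 0],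
   [nat_lit 4, nat_lit 5, nat_lit 4],
   [nat_lit 3, nat_lit 6, nat_lit 2, nat_lit 5, nat_lit 1, nat_lit 3, nat_lit 6, nat_lit 3, nat_lit 4, nat_lit 3, nat_lit 2, nat_lit 4, nat_lit 3, nat_lit 5, nat_lit 3, nat_lit 4],
   [nat_lit 1, nat_lit 5, nat_lit 1]],
  [[nat_lit 0, nat_lit 6, nat_lit 0, nat_lit 6, nat_lit 0],
   [nat_lit 2, nat_lit 6, nat_lit 2, nat_lit 6, nat_lit 2],
   [nat_lit 5, nat_lit 6, nat_lit 5],
   [nat_lit 0, nat_lit 3, nat_lit 1, nat_lit 6, nat_lit 3, nat_lit 1, nat_lit 2, nat_lit 3],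
   [nat_lit 3, nat_lit 2, nat_lit 0, nat_lit 3, nat_lit 6, nat_lit 0, nat_lit 3, nat_lit 1],
   [nat_lit 4, nat_lit 6, nat_lit 4]],
  []]

def HT : List (List (Nat × Nat × Nat)) := [
  [(1, 8, 0), (1, 7, 0), (2, 0, 0), (1, 9, 0), (1, 11, 0)],
  [(0, 7, 0), (0, 8, 1), (0, 24, 1)],
  [(2, 2, 0), (0, 10, 1), (0, 12, 1), (0, 23, 7), (0, 16, 1)],
  [(2, 3, 0), (1, 23, 8), (0, 10, 0), (1, 13, 2), (0, 17, 6)],
  [(2, 4, 0), (0, 19, 1), (0, 11, 0), (0, 12, 0), (0, 15, 1)],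
  [(2, 5, 0), (0, 20, 1), (0, 14, 0), (0, 18, 5), (0, 15, 0), (1, 24, 12), (1, 14, 1)],
  [(0, 21, 0), (0, 22, 0), (0, 20, 0), (0, 23, 0), (1, 23, 1), (0, 19, 0)],
  []]

def R : List (List Nat) :=
  [[0, 1],
   [1, 0],
   [2, 2],
   [3, 3],
   [4, 4],
   [5, 5],
   [6, 6],
   [0, 0, 0],
   [0, 2, 0, 2],
   [0, 3, 0, 3, 0, 3],
   [2, 3, 2, 3, 2, 3],
   [0, 4, 0, 4],
   [2, 4, 2, 4],
   [0, 3, 1, 4, 3, 1, 4, 3, 4],
   [0, 5, 0, 5],
   [4, 5, 4, 5],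
   [2, 5, 2, 5, 2, 5],
   [0, 5, 3, 0, 5, 3, 5, 1, 3],
   [0, 3, 2, 0, 5, 2, 3, 2, 5, 2],
   [4, 6, 4, 6],
   [5, 6, 5, 6],
   [0, 6, 0, 6, 0, 6],
   [2, 6, 2, 6, 2, 6],
   [0, 3, 1, 6, 3, 1, 2, 3, 6],
   [0, 5, 2, 6, 3, 5, 4, 3, 5, 3, 4, 2, 3, 4, 3, 6, 3]]

def W : List (List Nat) := [[0],
   [1],
   [2],
   [3],
   [4],
   [5]]

noncomputable def P : Par := ⟨T, (nat_lit 4), (nat_lit 15), (nat_lit 117), (nat_lit 13), (nat_lit 8191), (nat_lit 5), (nat_lit 31), (nat_lit 7), (nat_lit 28), (nat_lit 32), (nat_lit 0x8398a418801), RT⟩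

noncomputable def J0 : List Nat := [
  nat_lit 0x12c400010c40010c40010c40010c4010000338410840c00018480110810085140c100584dc012084021413384140015008401413466685015038415816045859c1041041041041041041041041041041041041041041041041]

theorem c0 : chk T (nat_lit 4) (nat_lit 15) (nat_lit 117) (nat_lit 13) (nat_lit 8191) (nat_lit 5) (nat_lit 31) (nat_lit 7) (nat_lit 28) (nat_lit 32) (nat_lit 0x8398a418801) (nat_lit 4) (nat_lit 15) RT (nat_lit 16) J0 (nat_lit 16) = true := by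
  decide +kernel

theorem r0 : P.RowsOK 16 32 := chk_sound P _ _ _ J0 _ _ (by decide +kernel) c0

theorem index.{u} : IndexLe.{u} 7 R W 12 :=
  indexLe_of_cert P HT (by decide +kernel)
    (show P.RowsOK 16 32 from r0)

end Tp0

theorem upP : CardLe (genW (presS 7 RP) (letters 7)) 95040 :=
  CardLe.tc (V' := [[0], [1], [2], [3], [4], [5]]) (n := 12) (m := 7920) [0, 1, 2, 3, 4, 5, 6] Tp0.index (presS_sat 7 RP) (by decide +kernel) (by decide +kernel) (by decide +kernel) upP_1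

noncomputable def y0 : Net :=
(Net.cons (nat_lit 0x6c4) (nat_lit 12)
(Net.cons (nat_lit 0x1203c) (nat_lit 6)
(Net.cons (nat_lit 0x100006) (nat_lit 3)
(Net.cons (nat_lit 0x8001) (nat_lit 2)
(Net.cons (nat_lit 0x248201) (nat_lit 1)
(Net.cons (nat_lit 0x208009) (nat_lit 2)
(Net.cons (nat_lit 0x102046) (nat_lit 3)
(Net.cons (nat_lit 0x13030) (nat_lit 6)
(Net.cons (nat_lit 0xdd4) (nat_lit 12)
Net.nil)))))))))

noncomputable def y1 : Net :=
(Net.cons (nat_lit 0xdd4) (nat_lit 12)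
(Net.cons (nat_lit 0x2c030) (nat_lit 6)
(Net.cons (nat_lit 0x104086) (nat_lit 3)
(Net.cons (nat_lit 0x48001) (nat_lit 2)
(Net.cons (nat_lit 0x49041) (nat_lit 1)
(Net.cons (nat_lit 0x40009) (nat_lit 2)
(Net.cons (nat_lit 0x1840c6) (nat_lit 3)
(Net.cons (nat_lit 0x2d03c) (nat_lit 6)
(Net.cons (nat_lit 0x6c4) (nat_lit 12)
Net.nil)))))))))

noncomputable def y2 : Net :=
(Net.cons (nat_lit 0x288) (nat_lit 12)
(Net.cons (nat_lit 0x38018) (nat_lit 6)
(Net.cons (nat_lit 0x102000) (nat_lit 3)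
(Net.cons (nat_lit 0x40000) (nat_lit 2)
(Net.cons (nat_lit 0x248240) (nat_lit 1)
(Net.cons (nat_lit 0x40000) (nat_lit 2)
(Net.cons (nat_lit 0x1020c0) (nat_lit 3)
(Net.cons (nat_lit 0x3d018) (nat_lit 6)
(Net.cons (nat_lit 0xa88) (nat_lit 12)
Net.nil)))))))))

noncomputable def y3 : Net :=
(Net.cons (nat_lit 0x608) (nat_lit 12)
(Net.cons (nat_lit 0x4) (nat_lit 3)
(Net.cons (nat_lit 0x200008) (nat_lit 2)
(Net.cons (nat_lit 0x209008) (nat_lit 1)
(Net.cons (nat_lit 0x200008) (nat_lit 2)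
(Net.cons (nat_lit 0x43084) (nat_lit 3)
(Net.cons (nat_lit 0x4008) (nat_lit 6)
(Net.cons (nat_lit 0x608) (nat_lit 12)
Net.nil))))))))

noncomputable def y4 : Net :=
(Net.cons (nat_lit 0x2d0) (nat_lit 12)
(Net.cons (nat_lit 0x32000) (nat_lit 6)
(Net.cons (nat_lit 0x1001) (nat_lit 2)
(Net.cons (nat_lit 0x241209) (nat_lit 1)
(Net.cons (nat_lit 0x1001) (nat_lit 2)
(Net.cons (nat_lit 0x100000) (nat_lit 3)
(Net.cons (nat_lit 0x32000) (nat_lit 6)
(Net.cons (nat_lit 0xad0) (nat_lit 12)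
Net.nil))))))))

noncomputable def y5 : Net :=
(Net.cons (nat_lit 0x58) (nat_lit 12)
(Net.cons (nat_lit 0x1a028) (nat_lit 6)
(Net.cons (nat_lit 0x4000) (nat_lit 3)
(Net.cons (nat_lit 0x240008) (nat_lit 1)
(Net.cons (nat_lit 0x8240) (nat_lit 2)
(Net.cons (nat_lit 0x4080) (nat_lit 3)
(Net.cons (nat_lit 0x1a028) (nat_lit 6)
(Net.cons (nat_lit 0x858) (nat_lit 12)
Net.nil))))))))

noncomputable def y6 : Net :=
(Net.cons (nat_lit 0x4c0) (nat_lit 12)
(Net.cons (nat_lit 0x1a000) (nat_lit 6)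
(Net.cons (nat_lit 0x2000) (nat_lit 3)
(Net.cons (nat_lit 0x1000) (nat_lit 2)
(Net.cons (nat_lit 0x49000) (nat_lit 1)
(Net.cons (nat_lit 0x1000) (nat_lit 2)
(Net.cons (nat_lit 0x2080) (nat_lit 3)
(Net.cons (nat_lit 0x1a008) (nat_lit 6)
(Net.cons (nat_lit 0xcd1) (nat_lit 12)
Net.nil)))))))))

noncomputable def TP0 : List Net := [y0, y1, y2, y3, y4, y5, y6]

noncomputable def TP : List Net := TP0 ++ T

theorem okP : TOK 24 TP := tok_append (TOK_of_ok (by decide +kernel)) ok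

def DP : List (List Nat × List Nat) :=
  [([0], [14]),
   ([1], [14, 14]),
   ([2], [14, 15]),
   ([3], [14, 14, 12, 14, 15]),
   ([4], [13, 10, 15, 14, 12]),
   ([5], [13, 9, 10, 10, 12, 12, 14, 14]),
   ([6], [11, 8, 12, 9, 11, 10, 10, 14, 14, 12, 15])]

theorem defsP : ∀ e ∈ DP, ev (sig TP) e.1 = ev (sig TP) e.2 :=
  eq_of_eqsP okP (by norm_num) (show eqsP (nat_lit 24) (nat_lit 5) (nat_lit 0) (nat_lit 5) TP DP = true by decide +kernel)

theorem satP : Sat (sig TP) RP :=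
  sat_of_relsP okP (by norm_num) (show relsP (nat_lit 24) (nat_lit 5) (nat_lit 0) (nat_lit 5) TP RP = true by decide +kernel)

def lvP : List (List (List Nat) × List Nat × Nat × Nat) :=
  [([[6]], [0, 3, 4, 1, 0, 3, 2], 0, 12),
   ([[5]], [0, 2, 0, 1, 2, 5], 5, 12),
   ([[4]], [0, 1, 0, 4, 1, 2, 2], 1, 11),
   ([[3]], [0, 1, 3, 0, 1, 0], 2, 10),
   ([[0], [1], [2]], [0, 2, 0], 4, 6)]

theorem presE : ∃ s : ℕ → ↥Cfsg.Spor.M12, IsPres s 7 RP :=
  haveI := card.1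
  isPres_net inj (AllIn.ext allIn (o := 7) rfl defsP (by decide +kernel)) (by decide +kernel) satP card.2
    (low_gen (l := 5) (lv := lvP) okP (by norm_num) (by decide +kernel) (by decide +kernel)) upP

theorem pres : IsPres presE.choose 7 RP := presE.choose_spec

end Cfsg.Agent.Schur.M12
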