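import Cfsg.Agent.Schur.Cover
import Cfsg.Agent.Schur.M12.Pres

set_option autoImplicit false
set_option maxRecDepth 100000

namespace Cfsg.Agent.Schur.M12
open Cfsg.Agent.Comp Cfsg.Agent.Schur

noncomputable def c0 : Net :=
(Net.cons (nat_lit 0x30030) (nat_lit 6)
(Net.cons (nat_lit 0x86086) (nat_lit 3)
(Net.cons (nat_lit 0x48048) (nat_lit 2)
(Net.cons (nat_lit 0x248248) (nat_lit 1)
(Net.cons (nat_lit 0x200200) (nat_lit 2)
(Net.cons (nat_lit 0x86086) (nat_lit 3)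
(Net.cons (nat_lit 0x30030) (nat_lit 6)
(Net.cons (nat_lit 0xd85) (nat_lit 12)
Net.nil))))))))

noncomputable def c1 : Net :=
(Net.cons (nat_lit 0x30030) (nat_lit 6)
(Net.cons (nat_lit 0x86086) (nat_lit 3)
(Net.cons (nat_lit 0x200200) (nat_lit 2)
(Net.cons (nat_lit 0x248248) (nat_lit 1)
(Net.cons (nat_lit 0x48048) (nat_lit 2)
(Net.cons (nat_lit 0x86086) (nat_lit 3)
(Net.cons (nat_lit 0x30030) (nat_lit 6)
(Net.cons (nat_lit 0xe49) (nat_lit 12)
Net.nil))))))))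

noncomputable def c2 : Net :=
(Net.cons (nat_lit 0x24024) (nat_lit 6)
(Net.cons (nat_lit 0x84084) (nat_lit 3)
(Net.cons (nat_lit 0x200200) (nat_lit 2)
(Net.cons (nat_lit 0x200200) (nat_lit 1)
(Net.cons (nat_lit 0x248248) (nat_lit 2)
(Net.cons (nat_lit 0x86086) (nat_lit 3)
(Net.cons (nat_lit 0x24024) (nat_lit 6)
(Net.cons (nat_lit 0xe01) (nat_lit 12)
Net.nil))))))))

noncomputable def c3 : Net :=
(Net.cons (nat_lit 0x14014) (nat_lit 6)
(Net.cons (nat_lit 0x180180) (nat_lit 3)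
(Net.cons (nat_lit 0x209209) (nat_lit 2)
(Net.cons (nat_lit 0x249249) (nat_lit 1)
(Net.cons (nat_lit 0x209209) (nat_lit 2)
(Net.cons (nat_lit 0x186186) (nat_lit 3)
(Net.cons (nat_lit 0x14014) (nat_lit 6)
(Net.cons (nat_lit 0x50) (nat_lit 12)
Net.nil))))))))

noncomputable def c4 : Net :=
(Net.cons (nat_lit 0x30030) (nat_lit 6)
(Net.cons (nat_lit 0x86086) (nat_lit 3)
(Net.cons (nat_lit 0x201201) (nat_lit 2)
(Net.cons (nat_lit 0x201201) (nat_lit 1)
(Net.cons (nat_lit 0x249249) (nat_lit 2)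
(Net.cons (nat_lit 0x86086) (nat_lit 3)
(Net.cons (nat_lit 0x30030) (nat_lit 6)
(Net.cons (nat_lit 0x35f) (nat_lit 12)
Net.nil))))))))

noncomputable def c5 : Net :=
(Net.cons (nat_lit 0x30030) (nat_lit 6)
(Net.cons (nat_lit 0x84084) (nat_lit 3)
(Net.cons (nat_lit 0x40040) (nat_lit 2)
(Net.cons (nat_lit 0x240240) (nat_lit 1)
(Net.cons (nat_lit 0x208208) (nat_lit 2)
(Net.cons (nat_lit 0x144144) (nat_lit 3)
(Net.cons (nat_lit 0x30030) (nat_lit 6)
(Net.cons (nat_lit 0xd8f) (nat_lit 12)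
Net.nil))))))))

noncomputable def c6 : Net :=
(Net.cons (nat_lit 0x20020) (nat_lit 6)
(Net.cons (nat_lit 0x4004) (nat_lit 3)
(Net.cons (nat_lit 0x41041) (nat_lit 1)
(Net.cons (nat_lit 0x8008) (nat_lit 2)
(Net.cons (nat_lit 0x104104) (nat_lit 3)
(Net.cons (nat_lit 0x20020) (nat_lit 6)
(Net.cons (nat_lit 0xf3c) (nat_lit 12)
Net.nil)))))))

noncomputable def c7 : Net :=
(Net.cons (nat_lit 0xfff) (nat_lit 12)
Net.nil)

noncomputable def TC : List Net := [c0, c1, c2, c3, c4, c5, c6, c7]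

theorem okC : TOK 24 TC := TOK_of_ok (by decide +kernel)

def Zs : List (List Nat) :=
  [[],
   [],
   [],
   [],
   [],
   [],
   [],
   [7],
   [],
   [7],
   [7],
   [],
   [],
   [],
   [],
   [],
   [],
   [],
   [],
   [],
   [],
   [],
   [],
   [],
   []]

theorem covE : ∀ e ∈ (covEqs 7 1 (1 + 1) RP Zs), ev (sig TC) e.1 = ev (sig TC) e.2 :=
  eq_of_eqsP okC (by norm_num) (show eqsP (nat_lit 24) (nat_lit 5) (nat_lit 0) (nat_lit 5) TC (covEqs 7 1 (1 + 1) RP Zs) = true by decide +kernel)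

def lvC : List (List (List Nat) × List Nat × Nat × Nat) :=
  [([[7]], [0], 0, 2)]

theorem low : Low ↥Cfsg.Spor.M12 2 :=
  haveI := Golay.simple_M12
  low_net pres okC (l := 5) (by norm_num) covE (a := 0) (a' := 2) (p := 1) (x := 8) (y := 6)
    (by decide +kernel) (by decide +kernel) (b := 10)
    (C := [nat_lit 0x19010110100e0100b01])
    (by decide +kernel) (lv := lvC) (by decide +kernel) (by decide +kernel)

end Cfsg.Agent.Schur.M12
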