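import Cfsg.Agent.Schur.M12.Base

set_option autoImplicit false
set_option maxRecDepth 100000

namespace Cfsg.Agent.Schur.M12
open Cfsg.Agent.Comp Cfsg.Agent.Schur

namespace P2

noncomputable def x0 : Net :=
(Net.cons (nat_lit 0x122) (nat_lit 12)
(Net.cons (nat_lit 0x3001c) (nat_lit 6)
(Net.cons (nat_lit 0x180) (nat_lit 3)
(Net.cons (nat_lit 0x200001) (nat_lit 2)
(Net.cons (nat_lit 0x241049) (nat_lit 1)
(Net.cons (nat_lit 0x40209) (nat_lit 2)
(Net.cons (nat_lit 0x180100) (nat_lit 3)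
(Net.cons (nat_lit 0x3102e) (nat_lit 6)
(Net.cons (nat_lit 0x291) (nat_lit 12)
Net.nil)))))))))

noncomputable def x1 : Net :=
(Net.cons (nat_lit 0x12) (nat_lit 12)
(Net.cons (nat_lit 0x30018) (nat_lit 6)
(Net.cons (nat_lit 0x80002) (nat_lit 3)
(Net.cons (nat_lit 0x8) (nat_lit 2)
(Net.cons (nat_lit 0x208209) (nat_lit 1)
(Net.cons (nat_lit 0x1) (nat_lit 2)
(Net.cons (nat_lit 0x84005) (nat_lit 3)
(Net.cons (nat_lit 0x30018) (nat_lit 6)
(Net.cons (nat_lit 0x52) (nat_lit 12)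
Net.nil)))))))))

noncomputable def x2 : Net :=
(Net.cons (nat_lit 0x312) (nat_lit 12)
(Net.cons (nat_lit 0x2c00a) (nat_lit 6)
(Net.cons (nat_lit 0x80080) (nat_lit 3)
(Net.cons (nat_lit 0x240) (nat_lit 2)
(Net.cons (nat_lit 0x200241) (nat_lit 1)
(Net.cons (nat_lit 0x200049) (nat_lit 2)
(Net.cons (nat_lit 0x101102) (nat_lit 3)
(Net.cons (nat_lit 0xcbf) (nat_lit 12)
Net.nil))))))))

noncomputable def x3 : Net :=
(Net.cons (nat_lit 0x532) (nat_lit 12)
(Net.cons (nat_lit 0x24004) (nat_lit 6)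
(Net.cons (nat_lit 0x180100) (nat_lit 3)
(Net.cons (nat_lit 0x40040) (nat_lit 2)
(Net.cons (nat_lit 0x240041) (nat_lit 1)
(Net.cons (nat_lit 0x41040) (nat_lit 2)
(Net.cons (nat_lit 0x182104) (nat_lit 3)
(Net.cons (nat_lit 0x24004) (nat_lit 6)
(Net.cons (nat_lit 0x572) (nat_lit 12)
Net.nil)))))))))

noncomputable def x4 : Net :=
(Net.cons (nat_lit 0x12) (nat_lit 12)
(Net.cons (nat_lit 0x10010) (nat_lit 6)
(Net.cons (nat_lit 0x84100) (nat_lit 3)
(Net.cons (nat_lit 0x209) (nat_lit 2)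
(Net.cons (nat_lit 0x208209) (nat_lit 1)
(Net.cons (nat_lit 0x8008) (nat_lit 2)
(Net.cons (nat_lit 0x180182) (nat_lit 3)
(Net.cons (nat_lit 0x3402e) (nat_lit 6)
(Net.cons (nat_lit 0x13) (nat_lit 12)
Net.nil)))))))))

noncomputable def x5 : Net :=
(Net.cons (nat_lit 0x302) (nat_lit 12)
(Net.cons (nat_lit 0xc010) (nat_lit 6)
(Net.cons (nat_lit 0x80102) (nat_lit 3)
(Net.cons (nat_lit 0x40048) (nat_lit 2)
(Net.cons (nat_lit 0x48049) (nat_lit 1)
(Net.cons (nat_lit 0x241041) (nat_lit 2)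
(Net.cons (nat_lit 0x80105) (nat_lit 3)
(Net.cons (nat_lit 0xc010) (nat_lit 6)
(Net.cons (nat_lit 0x302) (nat_lit 12)
Net.nil)))))))))

noncomputable def x6 : Net :=
(Net.cons (nat_lit 0x440) (nat_lit 12)
(Net.cons (nat_lit 0x24022) (nat_lit 6)
(Net.cons (nat_lit 0x2084) (nat_lit 3)
(Net.cons (nat_lit 0x240201) (nat_lit 2)
(Net.cons (nat_lit 0x241241) (nat_lit 1)
(Net.cons (nat_lit 0x240049) (nat_lit 2)
(Net.cons (nat_lit 0x182144) (nat_lit 3)
(Net.cons (nat_lit 0x24022) (nat_lit 6)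
(Net.cons (nat_lit 0x440) (nat_lit 12)
Net.nil)))))))))

noncomputable def x7 : Net :=
(Net.cons (nat_lit 0xd40) (nat_lit 12)
(Net.cons (nat_lit 0x4030) (nat_lit 6)
(Net.cons (nat_lit 0x4084) (nat_lit 3)
(Net.cons (nat_lit 0x48240) (nat_lit 2)
(Net.cons (nat_lit 0x249248) (nat_lit 1)
(Net.cons (nat_lit 0x48208) (nat_lit 2)
(Net.cons (nat_lit 0x186084) (nat_lit 3)
(Net.cons (nat_lit 0x1029) (nat_lit 6)
(Net.cons (nat_lit 0x8f6) (nat_lit 12)
Net.nil)))))))))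

noncomputable def R0 : List Net := [x0, x1, x2, x3, x4, x5, x6, x7]

noncomputable def R : List Net := R0 ++ Cfsg.Agent.Schur.M12.T

theorem ok : TOK 24 R := tok_append (TOK_of_ok (by decide +kernel)) Cfsg.Agent.Schur.M12.ok

def D : List (List Nat × List Nat) :=
  [([0], [9, 12, 15, 13, 15]),
   ([1], [10, 9, 15, 8, 15, 11, 13, 13, 16, 15]),
   ([2], [8, 8, 9, 12, 8, 11, 16, 13, 13, 16, 15]),
   ([6], [11, 8, 11, 12, 16, 13, 13, 15, 16]),
   ([7], [9, 10, 9, 15, 8, 12, 11, 15, 13])]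

theorem defs : ∀ e ∈ D, ev (sig R) e.1 = ev (sig R) e.2 :=
  eq_of_eqsP ok (by norm_num) (show eqsP (nat_lit 24) (nat_lit 5) (nat_lit 0) (nat_lit 5) R D = true by decide +kernel)

def T : List (List (List Nat)) :=
  [[[3]],
   [[1, 3], []],
   [[2, 4], [2, 4, 5], [5]],
   [[3], [3], [3, 5], []],
   [[4], [4, 5], [4, 5], [4], [5]],
   [[5], [5], [5], [5], [5], []]]

def Y : List (Nat × List Nat × List Nat) :=
  [(6, [3], [0, 1, 4, 5]),
   (6, [4], [2, 5]),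
   (7, [5], [3, 5])]

theorem eqs : ∀ e ∈ (pcEqs 2 6 T ++ stEqs Y), ev (sig R) e.1 = ev (sig R) e.2 :=
  eq_of_eqsP ok (by norm_num) (show eqsP (nat_lit 24) (nat_lit 5) (nat_lit 0) (nat_lit 5) R (pcEqs 2 6 T ++ stEqs Y) = true by decide +kernel)

def D2 : List (List Nat × List Nat) :=
  [([3], [0, 0]),
   ([0, 2, 4], [2, 0]),
   ([2, 3, 5], [3, 2])]

theorem allIn : AllIn Cfsg.Agent.Schur.M12.phi.range R :=
  AllIn.ext Cfsg.Agent.Schur.M12.allIn (o := 8) rfl (eqs_append defs (eqs_swap (D := D2) eqs (by decide +kernel))) (by decide +kernel)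

def lv : List (List (List Nat) × List Nat × Nat × Nat) :=
  [([[0], [3]], [0, 1], 1, 4),
   ([[1]], [0], 6, 2),
   ([[4], [2]], [0, 1], 17, 4),
   ([[5]], [0], 0, 2)]

theorem low : 2 ^ 6 ≤ Nat.card (gen (sig R) 6) :=
  low_gen (l := 5) (lv := lv) ok (by norm_num) (by decide +kernel) (by decide +kernel)

def I0 : List Ins :=
  [Ins.cons (nat_lit 0x1) (nat_lit 1) (nat_lit 0x41) (nat_lit 0x703),
   Ins.cons (nat_lit 0x3) (nat_lit 1) (nat_lit 0xc3) (nat_lit 0x1203),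
   Ins.cons (nat_lit 0x5) (nat_lit 1) (nat_lit 0x145) (nat_lit 0x1403),
   Ins.cons (nat_lit 0x6) (nat_lit 1) (nat_lit 0x46) (nat_lit 0x1002),
   Ins.cons (nat_lit 0x5) (nat_lit 1) (nat_lit 0x82) (nat_lit 0x15030110300c02),
   Ins.cons (nat_lit 0x5) (nat_lit 1) (nat_lit 0x41) (nat_lit 0xe0100b02),
   Ins.cons (nat_lit 0x6) (nat_lit 1) (nat_lit 0x41) (nat_lit 0x130101002),
   Ins.cons (nat_lit 0x5) (nat_lit 1) (nat_lit 0x45) (nat_lit 0x100300b02),
   Ins.cons (nat_lit 0x2) (nat_lit 1) (nat_lit 0x42) (nat_lit 0xa010080100202),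
   Ins.cons (nat_lit 0x5) (nat_lit 1) (nat_lit 0xc3) (nat_lit 0x1503014030120300d02),
   Ins.cons (nat_lit 0x3) (nat_lit 1) (nat_lit 0x82) (nat_lit 0x1502014030110300f0300c0300502),
   Ins.cons (nat_lit 0x3) (nat_lit 1) (nat_lit 0x43) (nat_lit 0x1501014010100300f0100d0100402),
   Ins.cons (nat_lit 0x3) (nat_lit 1) (nat_lit 0x41) (nat_lit 0x15030140200f0300b030090300402),
   Ins.cons (nat_lit 0x3) (nat_lit 1) (nat_lit 0x83) (nat_lit 0x150201402012010110300f0100d0100502),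
   Ins.stab 6 [1, 0] [0, 1] (nat_lit 0x15030140301201011030100300f0300e0100d0100c030050300403),
   Ins.stab 7 [2, 2] [] (nat_lit 0x18020130300a03)]

theorem ins0 : InsOK 6 0 24 T Y 3 I0 :=
  InsOK.of 10 (show lall (insOK (nat_lit 6) (nat_lit 0) (nat_lit 10) (nat_lit 24) T Y (nat_lit 3)) I0 = true by decide +kernel)

def I : List Ins := I0

def K : List Nat :=
  [nat_lit 0x9010050300401]

def O : List Nat :=
  [nat_lit 0xe0300d0200c0100b0200a020080100503004030030300201]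

def U : List Nat :=
  [nat_lit 0x20300101,
   nat_lit 0x301,
   nat_lit 0x6010050300401,
   nat_lit 0x202,
   nat_lit 0x402,
   nat_lit 0x50200402]

def C : List (List Nat) :=
  [[nat_lit 0x0],
  [nat_lit 0x0,
   nat_lit 0x0],
  [nat_lit 0x0,
   nat_lit 0x0,
   nat_lit 0x0],
  [nat_lit 0x201,
   nat_lit 0x110100a0100801,
   nat_lit 0x101,
   nat_lit 0x110100801],
  [nat_lit 0x100100e0100d0100c0100b010070100101,
   nat_lit 0x100100d0100b01007010060100401,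
   nat_lit 0x100100c0100b01009010070100401,
   nat_lit 0x701,
   nat_lit 0x100100d0100c01007010040100301],
  [nat_lit 0x901,
   nat_lit 0xb01006010040100301,
   nat_lit 0x301,
   nat_lit 0x801,
   nat_lit 0x401,
   nat_lit 0xb010040100301]]

theorem ord : ordsOK 2 (Nat.succ 3) 9 24 (insL I) K [1] O = true :=
  show ordsOK (nat_lit 2) (Nat.succ (nat_lit 3)) (nat_lit 9) (nat_lit 24) (insL I) K [1] O = true by decide +kernel

theorem tgt0 : TgtOK 2 24 T 2 3 (K ++ insL I) U C 0 6 :=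
  TgtOK.of 9 6 rfl (show tgtRows (nat_lit 2) (nat_lit 9) (nat_lit 24) T (nat_lit 2) (nat_lit 3) (K ++ insL I) U C (nat_lit 0) (nat_lit 6) = true by decide +kernel)

theorem gen : PGen ↥Cfsg.Spor.M12 2 [1] :=
  haveI := Cfsg.Agent.Schur.M12.card.1
  pgen_net Cfsg.Agent.Schur.M12.inj allIn Cfsg.Agent.Schur.M12.card.2 (by norm_num) rfl eqs low (by norm_num) (by decide +kernel) (E := 1) (I := I)
    (ins0) ord (a := 1) tgt0 (by decide +kernel)

end P2

end Cfsg.Agent.Schur.M12
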