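import Cfsg.Agent.Schur.M12.Base

set_option autoImplicit false
set_option maxRecDepth 100000

namespace Cfsg.Agent.Schur.M12
open Cfsg.Agent.Comp Cfsg.Agent.Schur

namespace P3

noncomputable def x0 : Net :=
(Net.cons (nat_lit 0xda4) (nat_lit 12)
(Net.cons (nat_lit 0x3c008) (nat_lit 6)
(Net.cons (nat_lit 0x84100) (nat_lit 3)
(Net.cons (nat_lit 0x200) (nat_lit 2)
(Net.cons (nat_lit 0x208208) (nat_lit 1)
(Net.cons (nat_lit 0x248208) (nat_lit 2)
(Net.cons (nat_lit 0x60c4) (nat_lit 3)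
(Net.cons (nat_lit 0x2f02d) (nat_lit 6)
(Net.cons (nat_lit 0x2c7) (nat_lit 12)
Net.nil)))))))))

noncomputable def x1 : Net :=
(Net.cons (nat_lit 0xc18) (nat_lit 12)
(Net.cons (nat_lit 0x20008) (nat_lit 6)
(Net.cons (nat_lit 0x2000) (nat_lit 3)
(Net.cons (nat_lit 0x40200) (nat_lit 2)
(Net.cons (nat_lit 0x41200) (nat_lit 1)
(Net.cons (nat_lit 0x240041) (nat_lit 2)
(Net.cons (nat_lit 0x83001) (nat_lit 3)
(Net.cons (nat_lit 0x9004) (nat_lit 6)
(Net.cons (nat_lit 0x651) (nat_lit 12)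
Net.nil)))))))))

noncomputable def x2 : Net :=
(Net.cons (nat_lit 0x314) (nat_lit 12)
(Net.cons (nat_lit 0x24002) (nat_lit 6)
(Net.cons (nat_lit 0x80004) (nat_lit 3)
(Net.cons (nat_lit 0x8001) (nat_lit 2)
(Net.cons (nat_lit 0x48001) (nat_lit 1)
(Net.cons (nat_lit 0x1201) (nat_lit 2)
(Net.cons (nat_lit 0xc0001) (nat_lit 3)
(Net.cons (nat_lit 0x1000b) (nat_lit 6)
(Net.cons (nat_lit 0x95c) (nat_lit 12)
Net.nil)))))))))

noncomputable def x3 : Net :=
(Net.cons (nat_lit 0xf40) (nat_lit 12)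
(Net.cons (nat_lit 0x4030) (nat_lit 6)
(Net.cons (nat_lit 0x6) (nat_lit 3)
(Net.cons (nat_lit 0x200240) (nat_lit 2)
(Net.cons (nat_lit 0x200241) (nat_lit 1)
(Net.cons (nat_lit 0x201041) (nat_lit 2)
(Net.cons (nat_lit 0x1020c7) (nat_lit 3)
(Net.cons (nat_lit 0x28004) (nat_lit 6)
(Net.cons (nat_lit 0x2c) (nat_lit 12)
Net.nil)))))))))

noncomputable def R0 : List Net := [x0, x1, x2, x3]

noncomputable def R : List Net := R0 ++ Cfsg.Agent.Schur.M12.T

theorem ok : TOK 24 R := tok_append (TOK_of_ok (by decide +kernel)) Cfsg.Agent.Schur.M12.ok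

def D : List (List Nat × List Nat) :=
  [([0], [5, 4, 5, 8, 4, 7, 9, 9, 9, 11, 12]),
   ([1], [7, 5, 9, 6, 7, 9]),
   ([3], [5, 5, 11, 4, 7, 9, 9, 9, 11, 11])]

theorem defs : ∀ e ∈ D, ev (sig R) e.1 = ev (sig R) e.2 :=
  eq_of_eqsP ok (by norm_num) (show eqsP (nat_lit 24) (nat_lit 5) (nat_lit 0) (nat_lit 5) R D = true by decide +kernel)

def T : List (List (List Nat)) :=
  [[[]],
   [[1, 2], []],
   [[2], [2], []]]

def Y : List (Nat × List Nat × List Nat) :=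
  [(3, [0], [0, 0]),
   (3, [1], [1, 1]),
   (3, [2], [2])]

theorem eqs : ∀ e ∈ (pcEqs 3 3 T ++ stEqs Y), ev (sig R) e.1 = ev (sig R) e.2 :=
  eq_of_eqsP ok (by norm_num) (show eqsP (nat_lit 24) (nat_lit 5) (nat_lit 0) (nat_lit 5) R (pcEqs 3 3 T ++ stEqs Y) = true by decide +kernel)

def D2 : List (List Nat × List Nat) :=
  [([0, 1, 2], [1, 0])]

theorem allIn : AllIn Cfsg.Agent.Schur.M12.phi.range R :=
  AllIn.ext Cfsg.Agent.Schur.M12.allIn (o := 4) rfl (eqs_append defs (eqs_swap (D := D2) eqs (by decide +kernel))) (by decide +kernel)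

def lv : List (List (List Nat) × List Nat × Nat × Nat) :=
  [([[0]], [0, 0], 1, 3),
   ([[1]], [0, 0], 10, 3),
   ([[2]], [0, 0], 0, 3)]

theorem low : 3 ^ 3 ≤ Nat.card (gen (sig R) 3) :=
  low_gen (l := 5) (lv := lv) ok (by norm_num) (by decide +kernel) (by decide +kernel)

def I0 : List Ins :=
  [Ins.cons (nat_lit 0x2) (nat_lit 1) (nat_lit 0x1041) (nat_lit 0x602),
   Ins.stab 3 [2, 0] [0, 2] (nat_lit 0x402),
   Ins.stab 3 [2, 1] [1, 2] (nat_lit 0x502)]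

theorem ins0 : InsOK 3 1 9 T Y 2 I0 :=
  InsOK.of 9 (show lall (insOK (nat_lit 3) (nat_lit 1) (nat_lit 9) (nat_lit 9) T Y (nat_lit 2)) I0 = true by decide +kernel)

def I : List Ins := I0

def K : List Nat :=
  []

def O : List Nat :=
  []

def U : List Nat :=
  [nat_lit 0x101,
   nat_lit 0x301,
   nat_lit 0x206]

def C : List (List Nat) :=
  [[nat_lit 0x0],
  [nat_lit 0x0,
   nat_lit 0x0],
  [nat_lit 0x201,
   nat_lit 0x301,
   nat_lit 0x101]]

theorem ord : ordsOK 3 (Nat.succ 2) 3 9 (insL I) K [] O = true :=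
  show ordsOK (nat_lit 3) (Nat.succ (nat_lit 2)) (nat_lit 3) (nat_lit 9) (insL I) K [] O = true by decide +kernel

theorem tgt0 : TgtOK 3 9 T 3 8 (K ++ insL I) U C 0 3 :=
  TgtOK.of 9 3 rfl (show tgtRows (nat_lit 3) (nat_lit 9) (nat_lit 9) T (nat_lit 3) (nat_lit 8) (K ++ insL I) U C (nat_lit 0) (nat_lit 3) = true by decide +kernel)

theorem gen : PGen ↥Cfsg.Spor.M12 3 [] :=
  haveI := Cfsg.Agent.Schur.M12.card.1
  pgen_net Cfsg.Agent.Schur.M12.inj allIn Cfsg.Agent.Schur.M12.card.2 (by norm_num) rfl eqs low (by norm_num) (by decide +kernel) (E := 0) (I := I)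
    (ins0) ord (a := 1) tgt0 (by decide +kernel)

end P3

end Cfsg.Agent.Schur.M12
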